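import Mathlib
import Cfsg.Agent.FG78.CoprimeMaxMain
import Cfsg.Agent.FG78.SingularGraph
import Cfsg.Agent.FG78.TwoSizes
import Cfsg.Agent.FGS80.ClassPrimes

set_option autoImplicit false

/-! Groups with class sizes `1, n, m, nm`, `(n, m) = 1`: basic facts about centralizers. -/

namespace Cfsg.Agent.FG78.Four

open Subgroup CoMax

variable {G : Type*} [Group G] [Finite G]

structure Hyp (G : Type*) [Group G] (n m : ℕ) : Prop where
  one_lt_n : 1 < n
  one_lt_m : 1 < m
  coprime : n.Coprime m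
  sz_mem : ∀ g : G, sz g = 1 ∨ sz g = n ∨ sz g = m ∨ sz g = n * m
  exn : ∃ g : G, sz g = n
  exm : ∃ g : G, sz g = m
  exnm : ∃ g : G, sz g = n * m

variable {n m : ℕ}

theorem Hyp.symm (H : Hyp G n m) : Hyp G m n where
  one_lt_n := H.one_lt_m
  one_lt_m := H.one_lt_n
  coprime := H.coprime.symm
  sz_mem := fun g => by
    rcases H.sz_mem g with h | h | h | h
    · exact Or.inl h
    · exact Or.inr (Or.inr (Or.inl h))
    · exact Or.inr (Or.inl h)
    · exact Or.inr (Or.inr (Or.inr (by rw [h, mul_comm])))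
  exn := H.exm
  exm := H.exn
  exnm := by obtain ⟨g, hg⟩ := H.exnm; exact ⟨g, by rw [hg, mul_comm]⟩

theorem inf_le_mul (a b : G) :
    centralizer ({a} : Set G) ⊓ centralizer ({b} : Set G) ≤ centralizer ({a * b} : Set G) :=
  fun _ hy => mem_cent_iff.mpr ((mem_cent_iff.mp hy.1).mul_right (mem_cent_iff.mp hy.2))

theorem inf_index {a b : G} (h : (sz a).Coprime (sz b)) :
    (centralizer ({a} : Set G) ⊓ centralizer ({b} : Set G)).index = sz a * sz b :=
  le_antisymm Subgroup.index_inf_le <| Nat.le_of_dvd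
    (Nat.pos_of_ne_zero Subgroup.index_ne_zero_of_finite)
    (h.mul_dvd_of_dvd_of_dvd (Subgroup.index_dvd_of_le inf_le_left)
      (Subgroup.index_dvd_of_le inf_le_right))

theorem eq_of_le_of_index_eq {A B : Subgroup G} (hle : A ≤ B) (h : A.index = B.index) : A = B := by
  refine Subgroup.eq_of_le_of_card_ge hle (le_of_eq ?_)
  have h1 := A.card_mul_index
  rw [← B.card_mul_index, h] at h1
  exact (Nat.eq_of_mul_eq_mul_right (Nat.pos_of_ne_zero Subgroup.index_ne_zero_of_finite) h1).symm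

theorem sz_dvd_of_le {a b : G}
    (h : centralizer ({a} : Set G) ≤ centralizer ({b} : Set G)) : sz b ∣ sz a :=
  Subgroup.index_dvd_of_le h

theorem cent_le_piPart (π : Set ℕ) (g : G) :
    centralizer ({g} : Set G) ≤ centralizer ({piPart π g} : Set G) := fun _ hy =>
  mem_cent_iff.mpr (commute_piPart π g (mem_cent_iff.mp hy))

theorem isPiElem_compl_of_ne {r : ℕ} {π : Set ℕ} {g : G} (hg : IsPiElem π g) (hr : r ∉ π) :
    IsPiElem ({r}ᶜ : Set ℕ) g :=
  hg.mono fun s hs (e : s ∈ ({r} : Set ℕ)) => hr (Set.mem_singleton_iff.mp e ▸ hs)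

theorem isPiElem_compl_of_prime_ne {r s : ℕ} {g : G} (hg : IsPiElem {s} g) (hrs : r ≠ s) :
    IsPiElem ({r}ᶜ : Set ℕ) g :=
  isPiElem_compl_of_ne hg (fun e => hrs (Set.mem_singleton_iff.mp e))

theorem not_dvd_of_isPiElem {r : ℕ} {π : Set ℕ} {g : G} (hr : r.Prime) (hg : IsPiElem π g)
    (h : r ∉ π) : ¬ r ∣ orderOf g := fun hd => h (hg r hr hd)

theorem exists_primary {g : G} (hg : g ∉ center G) :
    ∃ r : ℕ, r.Prime ∧ IsPiElem {r} (piPart {r} g) ∧ piPart {r} g ∉ center G := by
  obtain ⟨r, hr, -, h⟩ := exists_primary_not_mem_center (π := Set.univ)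
    (fun q _ _ => Set.mem_univ q) hg
  exact ⟨r, hr, isPiElem_piPart {r} g, h⟩

theorem commute_conj {a b : G} (h : (sz a).Coprime (sz b)) (hab : Commute a b) (c : G) :
    Commute a (c * b * c⁻¹) :=
  commute_conj_of_coprime_clSize h hab c

theorem exists_cent_ge_sylow {r : ℕ} [Fact r.Prime] {z : G} (hz : ¬ r ∣ sz z) (R : Sylow r G) :
    ∃ c : G, (R : Subgroup G) ≤ centralizer ({c * z * c⁻¹} : Set G) := by
  obtain ⟨c, hc⟩ := exists_conj_mem_centralizer_sylow R hz
  exact ⟨c, fun y hy => mem_cent_iff.mpr (mem_centralizer_iff.mp hc y hy)⟩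

theorem exists_conj_commute {r : ℕ} [Fact r.Prime] {z b : G} (hz : ¬ r ∣ sz z)
    (hb : IsPiElem {r} b) : ∃ c : G, Commute b (c * z * c⁻¹) := by
  obtain ⟨k, hk⟩ := exists_pow_of_isPiElem_singleton hb
  obtain ⟨R, hR⟩ := exists_sylow_mem hk
  obtain ⟨c, hc⟩ := exists_cent_ge_sylow hz R
  exact ⟨c, mem_cent_iff.mp (hc hR)⟩

theorem fact_cent (g : G) (r : ℕ) :
    (Nat.card (centralizer ({g} : Set G))).factorization r + (sz g).factorization r =
      (Nat.card G).factorization r := by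
  rw [← Subgroup.card_mul_index (centralizer ({g} : Set G)),
    Nat.factorization_mul Nat.card_pos.ne' Subgroup.index_ne_zero_of_finite, Finsupp.add_apply]

/-- If a subgroup has no larger `r`-part than the centre, its `r`-elements are central. -/
theorem mem_center_of_fact_le {H : Subgroup G} (hZ : center G ≤ H) {r : ℕ} (hr : r.Prime)
    (h : (Nat.card H).factorization r ≤ (Nat.card (center G)).factorization r) {b : G}
    (hb : b ∈ H) (hbr : IsPiElem {r} b) : b ∈ center G := by
  have hmul := TwoSizes.card_map_cent H hZ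
  have hnd : ¬ r ∣ Nat.card (H.map (QuotientGroup.mk' (center G))) := by
    intro hd
    have h1 := hr.factorization_pos_of_dvd Nat.card_pos.ne' hd
    rw [← hmul, Nat.factorization_mul Nat.card_pos.ne' Nat.card_pos.ne', Finsupp.add_apply] at h
    omega
  have hord : orderOf (QuotientGroup.mk b : G ⧸ center G) ∣
      Nat.card (H.map (QuotientGroup.mk' (center G))) :=
    (Subgroup.orderOf_mk _ (Subgroup.mem_map_of_mem (QuotientGroup.mk' (center G)) hb)).symm.dvd.trans
      (orderOf_dvd_natCard _)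
  rw [← QuotientGroup.eq_one_iff, ← orderOf_eq_one_iff]
  by_contra hne
  obtain ⟨s, hs, hsd⟩ := Nat.exists_prime_and_dvd hne
  have : s = r := Set.mem_singleton_iff.mp
    (hbr s hs (hsd.trans (orderOf_map_dvd (QuotientGroup.mk' (center G)) b)))
  exact hnd (this ▸ hsd.trans hord)

theorem isPiElem_of_mem {r : ℕ} [Fact r.Prime] {D : Subgroup G} (hD : IsPGroup r D) {w : G}
    (hw : w ∈ D) : IsPiElem {r} w := by
  obtain ⟨k, hk⟩ := IsPGroup.iff_orderOf.mp hD ⟨w, hw⟩
  rw [Subgroup.orderOf_mk] at hk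
  exact isPiElem_singleton_of_pow Fact.out hk

theorem card_le_fact {A B : Subgroup G} {r : ℕ} [Fact r.Prime] (hA : IsPGroup r A) (h : A ≤ B) :
    Nat.card A ≤ r ^ (Nat.card B).factorization r := by
  obtain ⟨k, hk⟩ := hA.exists_card_eq
  rw [hk]
  refine Nat.pow_le_pow_right (Fact.out : r.Prime).pos ?_
  rw [← (Fact.out : r.Prime).pow_dvd_iff_le_factorization Nat.card_pos.ne', ← hk]
  exact Subgroup.card_dvd_of_le h

namespace Hyp

variable (H : Hyp G n m)
include H

theorem sz_ne_one {g : G} (hg : g ∉ center G) : sz g ≠ 1 := fun h => hg (sz_eq_one_iff.mp h)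

theorem not_mem_center_of_n {g : G} (h : sz g = n) : g ∉ center G := fun hg => by
  have := H.one_lt_n; rw [sz_eq_one_iff.mpr hg] at h; omega

theorem not_mem_center_of_m {g : G} (h : sz g = m) : g ∉ center G :=
  H.symm.not_mem_center_of_n h

theorem not_dvd_of_dvd {r : ℕ} (hr : r.Prime) (h : r ∣ m) : ¬ r ∣ n := fun h' =>
  hr.ne_one (Nat.dvd_one.mp (H.coprime ▸ Nat.dvd_gcd h' h : r ∣ 1))

theorem co {a b : G} (ha : sz a = n) (hb : sz b = m) : (sz a).Coprime (sz b) := by
  rw [ha, hb]; exact H.coprime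

theorem eq_of_m_dvd {g : G} (h : m ∣ sz g) : sz g = m ∨ sz g = n * m := by
  have h1 := H.one_lt_m
  rcases H.sz_mem g with e | e | e | e
  · rw [e, Nat.dvd_one] at h; omega
  · rw [e] at h
    exact absurd (Nat.dvd_one.mp (H.coprime ▸ Nat.dvd_gcd h dvd_rfl : m ∣ 1)) (by omega)
  · exact Or.inl e
  · exact Or.inr e

theorem eq_of_dvd_m {g : G} (hg : g ∉ center G) (h : sz g ∣ m) : sz g = m := by
  have h0 := H.one_lt_n
  have h1 := H.one_lt_m
  rcases H.sz_mem g with e | e | e | e
  · exact absurd e (H.sz_ne_one hg)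
  · rw [e] at h
    exact absurd (Nat.dvd_one.mp (H.coprime ▸ Nat.dvd_gcd dvd_rfl h : n ∣ 1)) (by omega)
  · exact e
  · rw [e] at h
    have := Nat.le_of_dvd (by omega) h
    nlinarith

theorem eq_of_nm_dvd {g : G} (h : n * m ∣ sz g) : sz g = n * m := by
  rcases H.eq_of_m_dvd ((dvd_mul_left m n).trans h) with e | e
  · rw [e] at h
    have := Nat.le_of_dvd (by have := H.one_lt_m; omega) h
    have h0 := H.one_lt_n
    have h1 := H.one_lt_m
    nlinarith
  · exact e

theorem fact_le (g : G) (r : ℕ) :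
    (sz g).factorization r ≤ n.factorization r + m.factorization r := by
  have hn0 : n ≠ 0 := by have := H.one_lt_n; omega
  have hm0 : m ≠ 0 := by have := H.one_lt_m; omega
  rcases H.sz_mem g with e | e | e | e <;> rw [e]
  · simp
  · omega
  · omega
  · rw [Nat.factorization_mul hn0 hm0]; simp

theorem fact_nm (r : ℕ) : (n * m).factorization r = n.factorization r + m.factorization r := by
  have hn0 : n ≠ 0 := by have := H.one_lt_n; omega
  have hm0 : m ≠ 0 := by have := H.one_lt_m; omega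
  rw [Nat.factorization_mul hn0 hm0, Finsupp.add_apply]

theorem dvd_of_primary {r : ℕ} (hr : r.Prime) {g : G} (hg : g ∉ center G) (hgr : IsPiElem {r} g) :
    r ∣ n * m := by
  haveI := Fact.mk hr
  obtain ⟨k, hk⟩ := exists_pow_of_isPiElem_singleton hgr
  obtain ⟨R, hR⟩ := exists_sylow_mem hk
  obtain ⟨-, z, hz⟩ := (Cfsg.Agent.FGS80.ClassPrimes.isVertex_iff R).mpr fun h => hg (h hR)
  change r ∣ sz z at hz
  rcases H.sz_mem z with e | e | e | e <;> rw [e] at hz
  · exact absurd (Nat.dvd_one.mp hz) hr.ne_one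
  · exact dvd_mul_of_dvd_left hz m
  · exact dvd_mul_of_dvd_right hz n
  · exact hz

/-- A commuting pair of classes `n`, `m` of coprime orders has product of class `nm`. -/
theorem cent_mul {r s : ℕ} (hrs : r ≠ s) {a b : G} (hab : Commute a b) (ha : IsPiElem {r} a)
    (hb : IsPiElem {s} b) : centralizer ({a * b} : Set G) =
      centralizer ({a} : Set G) ⊓ centralizer ({b} : Set G) :=
  centralizer_mul_eq {r} hab ha (isPiElem_compl_of_prime_ne hb hrs)

theorem piPart_m {r : ℕ} {g : G} (hg : sz g = m) (h : piPart {r} g ∉ center G) :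
    sz (piPart {r} g) = m :=
  H.eq_of_dvd_m h (hg ▸ sz_dvd_of_le (cent_le_piPart {r} g))

theorem exists_primary_m : ∃ (r : ℕ) (y : G), r.Prime ∧ IsPiElem {r} y ∧ sz y = m := by
  obtain ⟨g, hg⟩ := H.exm
  obtain ⟨r, hr, h1, h2⟩ := exists_primary (H.not_mem_center_of_m hg)
  exact ⟨r, _, hr, h1, H.piPart_m hg h2⟩

theorem exists_primary_n : ∃ (r : ℕ) (x : G), r.Prime ∧ IsPiElem {r} x ∧ sz x = n :=
  H.symm.exists_primary_m

end Hyp

/-- All primary elements of class sizes `n` and `m` commute. -/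
def Comm (G : Type*) [Group G] (n m : ℕ) : Prop :=
  ∀ (r s : ℕ) (x y : G), r.Prime → s.Prime → IsPiElem {r} x → IsPiElem {s} y →
    sz x = n → sz y = m → Commute x y

theorem Comm.symm (h : Comm G n m) : Comm G m n := fun r s x y hr hs hx hy e1 e2 =>
  (h s r y x hs hr hy hx e2 e1).symm

end Cfsg.Agent.FG78.Four
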