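import Cfsg.Agent.FG78.FourSizes.Basic

set_option autoImplicit false

/-! Class sizes `1, n, m, nm`, `n < m`: primary elements of classes `n` and `m` commute. -/

namespace Cfsg.Agent.FG78.Four

open Subgroup CoMax

variable {G : Type*} [Group G] [Finite G] {n m : ℕ}

theorem Hyp.sz_mul_of_not_commute (H : Hyp G n m) (hlt : n < m) {x y : G} (hx : sz x = n)
    (hy : sz y = m) (hne : ¬ Commute x y) : sz (x * y) = m := by
  have h1 := sz_le_sz_mul (H.co hx hy)
  rw [hy] at h1
  have h2 : sz (x * y) ∣ n * m := hx ▸ hy ▸ sz_mul_dvd (H.co hx hy)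
  rcases H.sz_mem (x * y) with e | e | e | e
  · have := H.one_lt_n; omega
  · omega
  · exact e
  · exfalso
    refine hne ?_
    have he := eq_of_le_of_index_eq (inf_le_mul x y)
      (((inf_index (H.co hx hy)).trans (by rw [hx, hy])).trans e.symm)
    have hxy : x * y ∈ centralizer ({x} : Set G) ⊓ centralizer ({y} : Set G) :=
      he.symm ▸ mem_cent_iff.mpr (Commute.refl _)
    have h3 : Commute x (x * y) := (mem_cent_iff.mp hxy.1).symm
    have h4 := (Commute.refl x).inv_right.mul_right h3
    rwa [inv_mul_cancel_left] at h4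

theorem Hyp.comm_of_lt (H : Hyp G n m) (hlt : n < m) : Comm G n m := by
  intro t q x y ht hq hxt hyq hx hy
  by_contra hne
  haveI := Fact.mk ht
  haveI := Fact.mk hq
  have hco := H.co hx hy
  set D : Subgroup G := Subgroup.closure (diffs x) with hDdef
  haveI : D.Normal := closure_diffs_normal x
  -- nonconjugates of `y` commuting with conjugates of `x`
  have hnc : ∀ c d : G, ¬ Commute (c * x * c⁻¹) (d * y * d⁻¹) := by
    intro c d hc
    refine hne ?_
    have hco' : (sz (c * x * c⁻¹)).Coprime (sz (d * y * d⁻¹)) := by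
      rw [sz, sz, index_centralizer_conj, index_centralizer_conj]; exact hco
    have h1 := commute_conj hco' hc (c * d⁻¹)
    have e : c * d⁻¹ * (d * y * d⁻¹) * (c * d⁻¹)⁻¹ = c * y * c⁻¹ := by group
    rw [e] at h1
    have h2 := h1.map (MulAut.conj c⁻¹).toMonoidHom
    simpa [mul_assoc] using h2
  have hmulc : ∀ c : G, sz (x * (c * y * c⁻¹)) = m := fun c =>
    H.sz_mul_of_not_commute hlt hx ((index_centralizer_conj c y).trans hy)
      (by simpa using hnc 1 c)
  have htransl : ∀ c : G, ∀ d ∈ D, d * (c * y * c⁻¹) ∈ cls (c * y * c⁻¹) := by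
    intro c d hd
    have hc : sz (c * y * c⁻¹) = m := (index_centralizer_conj c y).trans hy
    have : D ≤ transl (cls (c * y * c⁻¹)) := (Subgroup.closure_le _).mpr (by
      rintro _ ⟨a, rfl⟩
      exact fun v hv => translate_cls (by rw [hc, hx]; exact H.coprime)
        ((hmulc c).trans hc.symm) a hv)
    exact this hd _ (mem_cls_self _)
  have hDτ : ∀ d ∈ D, IsPiElem (piOf m) d := by
    intro d hd s hs hsd
    have hle : D ≤ transl (cls y) := (Subgroup.closure_le _).mpr (by
      rintro _ ⟨a, rfl⟩
      exact fun v hv => translate_cls hco ((H.sz_mul_of_not_commute hlt hx hy hne).trans hy.symm) a hv)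
    have := prime_dvd_ncard_of_translation (hle hd) hs hsd
    rw [ncard_cls, hy] at this
    exact ⟨hs, this⟩
  -- class `n` elements centralize `D`
  have hnD : ∀ b : G, sz b = n → ∀ d ∈ D, Commute b d := by
    intro b hb d hd
    have h1 : (centralizer ({b} : Set G)).relIndex D = 1 := by
      refine Nat.eq_one_of_dvd_coprimes (k := (centralizer ({b} : Set G)).relIndex D)
        (Nat.coprime_of_dvd fun s hs h1 h2 => ?_ : (Nat.card D).Coprime n)
        (Subgroup.index_dvd_card _) (hb ▸ CW_relIndex_dvd D _)
      haveI := Fact.mk hs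
      obtain ⟨a, ha⟩ := exists_prime_orderOf_dvd_card' s h1
      exact H.not_dvd_of_dvd hs (hDτ a a.2 s hs (by rw [Subgroup.orderOf_coe, ha])).2 h2
    exact (mem_cent_iff.mp (Subgroup.relIndex_eq_one.mp h1 hd)).symm
  have hdiff : ∀ a : G, x⁻¹ * (a * x * a⁻¹) ∈ D := fun a => Subgroup.subset_closure ⟨a, rfl⟩
  -- `t` divides `m`
  have htτ : t ∈ piOf m := by
    by_contra h
    refine H.not_mem_center_of_n hx (mem_center_iff.mpr fun a => ?_)
    have hxπ : IsPiElem (piOf m)ᶜ x := hxt.mono (Set.singleton_subset_iff.mpr h)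
    have h1 := eq_one_of_twist hxπ (hDτ _ (hdiff a)) (hnD x hx _ (hdiff a))
      ((isPiElem_conj_iff a x).mpr hxπ) (mul_inv_cancel_left x (a * x * a⁻¹)).symm
    exact mul_inv_eq_iff_eq_mul.mp (inv_mul_eq_one.mp h1).symm
  have hxτ : IsPiElem (piOf m) x := hxt.mono (Set.singleton_subset_iff.mpr htτ)
  obtain ⟨d₀, hd₀, hd₀1⟩ : ∃ d ∈ D, d ≠ 1 := by
    by_contra! h
    refine H.not_mem_center_of_n hx (mem_center_iff.mpr fun a => ?_)
    exact mul_inv_eq_iff_eq_mul.mp (inv_mul_eq_one.mp (h _ (hdiff a))).symm
  -- `q` divides `n`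
  have hqτ : q ∉ piOf m := by
    intro hqm
    obtain ⟨c, hc⟩ := exists_conj_commute (z := x) (hx ▸ H.not_dvd_of_dvd hq hqm.2) hyq
    exact hnc c 1 (by simpa using hc.symm)
  have hqm : ¬ q ∣ m := fun h => hqτ ⟨hq, h⟩
  have hqn : q ∣ n :=
    ((Nat.Prime.dvd_mul hq).mp (H.dvd_of_primary hq (H.not_mem_center_of_m hy) hyq)).resolve_right hqm
  have hCD : ∀ c : G, ∀ d ∈ D, Commute (c * y * c⁻¹) d → d = 1 := by
    intro c d hd hcd
    obtain ⟨a, ha⟩ := htransl c d hd
    have hyσ : IsPiElem (piOf m)ᶜ (c * y * c⁻¹) :=
      (isPiElem_conj_iff c y).mpr (hyq.mono (Set.singleton_subset_iff.mpr hqτ))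
    exact eq_one_of_twist hyσ (hDτ d hd) hcd ((isPiElem_conj_iff a _).mpr hyσ)
      (ha.trans hcd.eq.symm)
  -- a `τ`-element commuting with a conjugate of `y` is central
  have hA : ∀ (r : ℕ) (b c : G), r.Prime → r ∣ m → IsPiElem {r} b →
      Commute b (c * y * c⁻¹) → b ∈ center G := by
    intro r b c hr hrm hb hbu
    haveI := Fact.mk hr
    by_contra hbZ
    have hrq : r ≠ q := fun e => hqm (e ▸ hrm)
    set u := c * y * c⁻¹ with hu
    have huq : IsPiElem {q} u := (isPiElem_conj_iff c y).mpr hyq
    have huy : sz u = m := (index_centralizer_conj c y).trans hy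
    obtain ⟨cx, hcx⟩ := exists_conj_commute (z := x) (hx ▸ H.not_dvd_of_dvd hr hrm) hb
    rcases H.sz_mem b with e | e | e | e
    · exact H.sz_ne_one hbZ e
    · -- class `n`
      have hbd : ∀ d ∈ D, Commute b d := hnD b e
      have hbu' : ∀ a : G, Commute b (a * u * a⁻¹) := fun a =>
        commute_conj (H.co e huy) hbu a
      have hcent : centralizer ({d₀ * b} : Set G) ≤
          centralizer ({d₀} : Set G) ⊓ centralizer ({b} : Set G) := by
        intro g hg
        have hg' : g * (d₀ * b) * g⁻¹ = d₀ * b := by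
          rw [mul_inv_eq_iff_eq_mul]; exact mem_cent_iff.mp hg
        set z := b * (g * b * g⁻¹)⁻¹ with hz
        have hzD : z ∈ D := by
          have e1 : z = d₀⁻¹ * (g * d₀ * g⁻¹) := by
            rw [hz]
            calc b * (g * b * g⁻¹)⁻¹ = d₀⁻¹ * (d₀ * b) * (g * b * g⁻¹)⁻¹ := by group
              _ = d₀⁻¹ * (g * (d₀ * b) * g⁻¹) * (g * b * g⁻¹)⁻¹ := by rw [hg']
              _ = _ := by group
          rw [e1]
          exact mul_mem (inv_mem hd₀) (Subgroup.Normal.conj_mem inferInstance _ hd₀ g)
        have hzu : Commute u z := by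
          refine hbu.symm.mul_right (Commute.inv_right ?_)
          have h1 := (hbu' g⁻¹).map (MulAut.conj g).toMonoidHom
          simpa [mul_assoc] using h1.symm
        have hb' : g * b * g⁻¹ = b := by
          have := hCD c z hzD hzu
          rw [hz, mul_inv_eq_one] at this
          exact this.symm
        have hgb : Commute g b := mul_inv_eq_iff_eq_mul.mp hb'
        refine ⟨mem_cent_iff.mpr ?_, mem_cent_iff.mpr hgb⟩
        have := (mem_cent_iff.mp hg).mul_right hgb.inv_right
        rwa [mul_inv_cancel_right] at this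
      set C := centralizer ({d₀ * b} : Set G)
      obtain ⟨S⟩ : Nonempty (Sylow q C) := inferInstance
      set S' := (S : Subgroup C).map C.subtype with hS'
      have hS'C : S' ≤ C := Subgroup.map_subtype_le _
      have hS'q : IsPGroup q S' := S.2.map _
      have hS'card : Nat.card S' = q ^ (Nat.card C).factorization q := by
        rw [hS', Subgroup.card_map_of_injective C.subtype_injective, S.card_eq_multiplicity]
      obtain ⟨Q, hQ⟩ := hS'q.exists_le_sylow
      obtain ⟨c', hc'⟩ := exists_cent_ge_sylow (z := y) (hy ▸ hqm) Q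
      set u' := c' * y * c'⁻¹ with hu'
      obtain ⟨k, hk⟩ := exists_pow_of_isPiElem_singleton ((isPiElem_conj_iff c' y).mpr hyq)
      have hu'Q : u' ∈ (Q : Subgroup G) := mem_of_commute_sylow hk Q
        (mem_centralizer_iff.mpr fun v hv => (mem_cent_iff.mp (hc' hv)).eq)
      have hu'b : Commute b u' := by
        have := hbu' (c' * c⁻¹)
        have e1 : c' * c⁻¹ * u * (c' * c⁻¹)⁻¹ = u' := by rw [hu, hu']; group
        rwa [e1] at this
      have hlt' : S' < (Q : Subgroup G) ⊓ centralizer ({b} : Set G) := by
        refine lt_of_le_of_ne (le_inf hQ (hS'C.trans (hcent.trans inf_le_right))) fun e1 => ?_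
        have hu'S : u' ∈ S' := e1 ▸ ⟨hu'Q, mem_cent_iff.mpr hu'b.symm⟩
        exact hd₀1 (hCD c' d₀ hd₀ (mem_cent_iff.mp (hcent (hS'C hu'S)).1))
      have h1 : Nat.card S' < Nat.card ((Q : Subgroup G) ⊓ centralizer ({b} : Set G) : Subgroup G) := by
        by_contra hge
        exact hlt'.ne (Subgroup.eq_of_le_of_card_ge hlt'.le (Nat.le_of_not_lt hge))
      have h2 := card_le_fact ((Q.2.to_le (inf_le_left : (Q : Subgroup G) ⊓ centralizer ({b} : Set G) ≤ Q)))
        (inf_le_right : (Q : Subgroup G) ⊓ centralizer ({b} : Set G) ≤ _)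
      rw [hS'card] at h1
      have h3 : (Nat.card C).factorization q < (Nat.card (centralizer ({b} : Set G))).factorization q :=
        (Nat.pow_lt_pow_iff_right hq.one_lt).mp (lt_of_lt_of_le h1 h2)
      have h4 : (Nat.card C).factorization q + (sz (d₀ * b)).factorization q =
          (Nat.card G).factorization q := fact_cent (d₀ * b) q
      have h5 := fact_cent b q
      have h6 := H.fact_le (d₀ * b) q
      rw [Nat.factorization_eq_zero_of_not_dvd hqm, add_zero] at h6
      rw [e] at h5
      omega
    · -- class `m`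
      have hbx : Commute x b := by
        have hco' : (sz b).Coprime (sz (cx * x * cx⁻¹)) := by
          rw [e, sz, index_centralizer_conj, show (centralizer ({x} : Set G)).index = n from hx]
          exact H.coprime.symm
        have := commute_conj hco' hcx cx⁻¹
        simpa [mul_assoc] using this.symm
      obtain ⟨S⟩ : Nonempty (Sylow q G) := inferInstance
      obtain ⟨c₁, hc₁⟩ := exists_cent_ge_sylow (z := b) (e ▸ hqm) S
      obtain ⟨c₂, hc₂⟩ := exists_cent_ge_sylow (z := y) (hy ▸ hqm) S
      set b' := c₁ * b * c₁⁻¹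
      set u' := c₂ * y * c₂⁻¹ with hu'
      obtain ⟨k, hk⟩ := exists_pow_of_isPiElem_singleton ((isPiElem_conj_iff c₂ y).mpr hyq)
      have hu'S : u' ∈ (S : Subgroup G) := mem_of_commute_sylow hk S
        (mem_centralizer_iff.mpr fun v hv => (mem_cent_iff.mp (hc₂ hv)).eq)
      have hcomm : Commute b' u' := (mem_cent_iff.mp (hc₁ hu'S)).symm
      have hC := H.cent_mul hrq hcomm ((isPiElem_conj_iff c₁ b).mpr hb)
        ((isPiElem_conj_iff c₂ y).mpr hyq)
      have hszb : sz b' = m := (index_centralizer_conj c₁ b).trans e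
      have hszu : sz u' = m := (index_centralizer_conj c₂ y).trans hy
      have hndvd : ¬ q ∣ sz (b' * u') := by
        rw [sz, hC]
        exact fun hd => S.not_dvd_index (hd.trans (Subgroup.index_dvd_of_le (le_inf hc₁ hc₂)))
      have hszmul : sz (b' * u') = m := by
        rcases H.eq_of_m_dvd (hszb ▸ sz_dvd_of_le (a := b' * u') (b := b') (hC.le.trans inf_le_left))
          with h | h
        · exact h
        · refine absurd ?_ hndvd
          rw [h]; exact dvd_mul_of_dvd_left hqn m
      have e1 : centralizer ({b' * u'} : Set G) = centralizer ({b'} : Set G) :=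
        eq_of_le_of_index_eq (hC.le.trans inf_le_left) (hszmul.trans hszb.symm)
      have e2 : centralizer ({b' * u'} : Set G) = centralizer ({u'} : Set G) :=
        eq_of_le_of_index_eq (hC.le.trans inf_le_right) (hszmul.trans hszu.symm)
      have hxb : Commute (c₁ * x * c₁⁻¹) b' := by
        have h := hbx.map (MulAut.conj c₁).toMonoidHom
        simpa [b'] using h
      exact hnc c₁ c₂ (mem_cent_iff.mp ((e1.symm.trans e2) ▸ mem_cent_iff.mpr hxb))
    · -- class `nm`
      have hC := H.cent_mul hrq hbu hb huq
      have hle : centralizer ({b * u} : Set G) ≤ centralizer ({b} : Set G) := hC.le.trans inf_le_left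
      have e1 := eq_of_le_of_index_eq hle ((H.eq_of_nm_dvd (e ▸ sz_dvd_of_le hle)).trans e.symm)
      exact hnc cx c (mem_cent_iff.mp
        ((hC.le.trans inf_le_right) (e1.symm ▸ mem_cent_iff.mpr hcx.symm)))
  -- every element of class size a multiple of `m` has no noncentral `τ`-element in its centralizer
  have hm0 : m ≠ 0 := by have := H.one_lt_m; omega
  have hn0 : n ≠ 0 := by have := H.one_lt_n; omega
  have hRτ : ∀ (r : ℕ) (g b : G), r.Prime → r ∣ m → m ∣ sz g → b ∈ centralizer ({g} : Set G) →
      IsPiElem {r} b → b ∈ center G := by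
    intro r g b hr hrm hmg hb hbr
    haveI := Fact.mk hr
    refine mem_center_of_fact_le (center_le_centralizer _) hr ?_ hb hbr
    have hCy : (Nat.card (centralizer ({y} : Set G))).factorization r ≤
        (Nat.card (center G)).factorization r := by
      set C := centralizer ({y} : Set G)
      obtain ⟨S⟩ : Nonempty (Sylow r C) := inferInstance
      have hS : IsPGroup r ((S : Subgroup C).map C.subtype) := S.2.map _
      have hle : (S : Subgroup C).map C.subtype ≤ center G := fun v hv => by
        exact hA r v 1 hr hrm (isPiElem_of_mem hS hv)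
          (by simpa using mem_cent_iff.mp (Subgroup.map_subtype_le _ hv))
      have := Subgroup.card_dvd_of_le hle
      rw [Subgroup.card_map_of_injective C.subtype_injective, S.card_eq_multiplicity] at this
      exact (hr.pow_dvd_iff_le_factorization Nat.card_pos.ne').mp this
    have h1 := fact_cent g r
    have h2 := fact_cent y r
    have h3 : m.factorization r ≤ (sz g).factorization r :=
      (Nat.factorization_le_iff_dvd hm0 Subgroup.index_ne_zero_of_finite).mpr hmg r
    rw [hy] at h2
    omega
  -- no noncentral `σ`-element commutes with `x`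
  have hH : ∀ (r : ℕ) (h : G), r.Prime → ¬ r ∣ m → IsPiElem {r} h → Commute h x → h ∈ center G := by
    intro r h hr hrm hh hhx
    by_contra hZ
    rcases H.sz_mem h with e | e | e | e
    · exact H.sz_ne_one hZ e
    · by_cases hhy : Commute h y
      · have hrt : r ≠ t := fun e' => hrm (e' ▸ htτ.2)
        have hC := H.cent_mul hrt hhx hh hxt
        have hle : centralizer ({h * x} : Set G) ≤ centralizer ({h} : Set G) := hC.le.trans inf_le_left
        have hle' : centralizer ({h * x} : Set G) ≤ centralizer ({x} : Set G) := hC.le.trans inf_le_right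
        have hn' : sz (h * x) = n := by
          have h1 : sz (h * x) ≤ n * n := by
            rw [sz, hC]
            refine Subgroup.index_inf_le.trans (le_of_eq ?_)
            change sz h * sz x = n * n
            rw [e, hx]
          have h2 : n ∣ sz (h * x) := e ▸ sz_dvd_of_le hle
          rcases H.symm.eq_of_m_dvd h2 with h3 | h3
          · exact h3
          · exfalso; rw [h3] at h1; nlinarith [H.one_lt_n]
        have e1 := eq_of_le_of_index_eq hle (hn'.trans e.symm)
        have e2 := eq_of_le_of_index_eq hle' (hn'.trans hx.symm)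
        exact hne (mem_cent_iff.mp
          ((e1.symm.trans e2) ▸ mem_cent_iff.mpr hhy.symm)).symm
      · refine hZ (mem_center_iff.mpr fun a => ?_)
        have hsz := H.sz_mul_of_not_commute hlt e hy hhy
        have hhπ : IsPiElem (piOf m)ᶜ h :=
          hh.mono (Set.singleton_subset_iff.mpr fun h' => hrm h'.2)
        set D' : Subgroup G := Subgroup.closure (diffs h)
        haveI : D'.Normal := closure_diffs_normal h
        have hD'τ : ∀ d ∈ D', IsPiElem (piOf m) d := by
          intro d hd s hs hsd
          have hle : D' ≤ transl (cls y) := (Subgroup.closure_le _).mpr (by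
            rintro _ ⟨a', rfl⟩
            exact fun v hv => translate_cls (H.co e hy) (hsz.trans hy.symm) a' hv)
          have := prime_dvd_ncard_of_translation (hle hd) hs hsd
          rw [ncard_cls, hy] at this
          exact ⟨hs, this⟩
        have h1 : (centralizer ({h} : Set G)).relIndex D' = 1 := by
          refine Nat.eq_one_of_dvd_coprimes (k := (centralizer ({h} : Set G)).relIndex D')
            (Nat.coprime_of_dvd fun s hs h1 h2 => ?_ : (Nat.card D').Coprime n)
            (Subgroup.index_dvd_card _) (e ▸ CW_relIndex_dvd D' _)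
          haveI := Fact.mk hs
          obtain ⟨a', ha'⟩ := exists_prime_orderOf_dvd_card' s h1
          exact H.not_dvd_of_dvd hs (hD'τ a' a'.2 s hs (by rw [Subgroup.orderOf_coe, ha'])).2 h2
        have hda : h⁻¹ * (a * h * a⁻¹) ∈ D' := Subgroup.subset_closure ⟨a, rfl⟩
        have h2 := eq_one_of_twist hhπ (hD'τ _ hda)
          (mem_cent_iff.mp (Subgroup.relIndex_eq_one.mp h1 hda)).symm
          ((isPiElem_conj_iff a h).mpr hhπ) (mul_inv_cancel_left h (a * h * a⁻¹)).symm
        exact mul_inv_eq_iff_eq_mul.mp (inv_mul_eq_one.mp h2).symm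
    · exact H.not_mem_center_of_n hx
        (hRτ t h x ht htτ.2 (dvd_of_eq e.symm) (mem_cent_iff.mpr hhx.symm) hxt)
    · exact H.not_mem_center_of_n hx
        (hRτ t h x ht htτ.2 (e ▸ dvd_mul_left m n) (mem_cent_iff.mpr hhx.symm) hxt)
  obtain ⟨g, hg⟩ := H.exnm
  obtain ⟨r, hr, hgr, hgZ⟩ := exists_primary (fun h => by
    have h0 := H.one_lt_n; have h1 := H.one_lt_m
    rw [sz_eq_one_iff.mpr h] at hg; nlinarith : g ∉ center G)
  have hgC : piPart {r} g ∈ centralizer ({g} : Set G) :=
    mem_cent_iff.mpr (commute_piPart {r} g (Commute.refl g)).symm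
  by_cases hrm : r ∣ m
  · exact hgZ (hRτ r g _ hr hrm (hg ▸ dvd_mul_left m n) hgC hgr)
  · haveI := Fact.mk hr
    refine hgZ (mem_center_of_fact_le (center_le_centralizer _) hr ?_ hgC hgr)
    have hCx : (Nat.card (centralizer ({x} : Set G))).factorization r ≤
        (Nat.card (center G)).factorization r := by
      set C := centralizer ({x} : Set G)
      obtain ⟨S⟩ : Nonempty (Sylow r C) := inferInstance
      have hS : IsPGroup r ((S : Subgroup C).map C.subtype) := S.2.map _
      have hle : (S : Subgroup C).map C.subtype ≤ center G := fun v hv =>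
        hH r v hr hrm (isPiElem_of_mem hS hv) (mem_cent_iff.mp (Subgroup.map_subtype_le _ hv))
      have := Subgroup.card_dvd_of_le hle
      rw [Subgroup.card_map_of_injective C.subtype_injective, S.card_eq_multiplicity] at this
      exact (hr.pow_dvd_iff_le_factorization Nat.card_pos.ne').mp this
    have h1 := fact_cent g r
    have h2 := fact_cent x r
    rw [hx] at h2
    rw [hg, H.fact_nm] at h1
    omega

theorem Hyp.comm (H : Hyp G n m) : Comm G n m := by
  rcases lt_trichotomy n m with h | h | h
  · exact H.comm_of_lt h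
  · exfalso
    have h0 := H.one_lt_n
    have h1 := H.coprime
    subst h
    rw [Nat.coprime_self] at h1
    omega
  · exact (H.symm.comm_of_lt h).symm

end Cfsg.Agent.FG78.Four
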