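import Cfsg.Agent.FG78.FourSizes.CaseB
import Cfsg.Agent.S4033

set_option autoImplicit false

/-! The centralizer of a primary element of class size `m`; `n` is a prime power. -/

namespace Cfsg.Agent.FG78.Four

open Subgroup CoMax

variable {G : Type*} [Group G] [Finite G] {n m : ℕ}

/-- relative class size in `C(y)` -/
noncomputable abbrev rel (y w : G) : ℕ :=
  (centralizer ({w} : Set G)).relIndex (centralizer ({y} : Set G))

theorem rel_mul (y w : G) :
    rel y w * sz y = (centralizer ({w} : Set G) ⊓ centralizer ({y} : Set G)).index := by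
  rw [rel, sz, ← Subgroup.inf_relIndex_right]
  exact Subgroup.relIndex_mul_index inf_le_right

theorem index_cent_eq_rel (y : G) (w : centralizer ({y} : Set G)) :
    (centralizer ({w} : Set (centralizer ({y} : Set G)))).index = rel y w := by
  rw [CW.centralizer_subgroupOf]; rfl

theorem isPiElem_coe {J : Subgroup G} {π : Set ℕ} (w : J) :
    IsPiElem π w ↔ IsPiElem π (w : G) := by
  unfold IsPiElem; rw [Subgroup.orderOf_coe]

theorem relIndex_eq_index {J : Type*} [Group J] [Finite J] (K A : Subgroup J) [A.Normal]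
    (h : K ⊔ A = ⊤) : K.relIndex A = K.index := by
  have h0 : A.relIndex K = A.index := by
    have h' := Subgroup.relIndex_sup_right (H := K) (K := A)
    rwa [h, Subgroup.relIndex_top_right, eq_comm] at h'
  have h1 := Subgroup.relIndex_mul_index (inf_le_left : K ⊓ A ≤ K)
  have h2 := Subgroup.relIndex_mul_index (inf_le_right : K ⊓ A ≤ A)
  rw [Subgroup.inf_relIndex_left, h0] at h1
  rw [Subgroup.inf_relIndex_right, ← h1, mul_comm] at h2
  exact Nat.eq_of_mul_eq_mul_left (Nat.pos_of_ne_zero Subgroup.index_ne_zero_of_finite) h2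

namespace Hyp

variable (H : Hyp G n m)
include H

theorem rel_of_n {x y : G} (hx : sz x = n) (hy : sz y = m) : rel y x = n := by
  have h := rel_mul y x
  rw [inf_index (H.co hx hy), hx, hy] at h
  exact Nat.eq_of_mul_eq_mul_right (by have := H.one_lt_m; omega) h

theorem rel_cases {s : ℕ} (hs : s.Prime) {y : G} (hyp : IsPiElem {s} y) (hy : sz y = m) {w : G}
    (hw : w ∈ centralizer ({y} : Set G)) (hws : ¬ s ∣ orderOf w) : rel y w = 1 ∨ rel y w = n := by
  haveI := Fact.mk hs
  have h := rel_mul y w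
  have e : centralizer ({y * w} : Set G) = centralizer ({w} : Set G) ⊓ centralizer ({y} : Set G) := by
    rw [centralizer_mul_eq {s} (mem_cent_iff.mp hw).symm hyp (isPiElem_compl_singleton_iff.mpr hws),
      inf_comm]
  rw [← e, hy] at h
  have hm : 0 < m := by have := H.one_lt_m; omega
  rcases H.eq_of_m_dvd (g := y * w) ((Dvd.intro_left _ rfl : m ∣ rel y w * m).trans (dvd_of_eq h))
    with e' | e'
  · left; exact Nat.eq_of_mul_eq_mul_right hm (by rw [h, one_mul]; exact e')
  · right; exact Nat.eq_of_mul_eq_mul_right hm (by rw [h]; exact e')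

theorem dec_split {s : ℕ} [hs : Fact s.Prime] {y : G} (hyp : IsPiElem {s} y) (hy : sz y = m)
    (hsn : ¬ s ∣ n) (P : Sylow s (centralizer ({y} : Set G))) :
    (P : Subgroup (centralizer ({y} : Set G))).Normal ∧
      ∃ A : Subgroup (centralizer ({y} : Set G)), A.Normal ∧
        A.IsComplement' (P : Subgroup (centralizer ({y} : Set G))) ∧
        A ≤ centralizer ((P : Subgroup (centralizer ({y} : Set G))) : Set (centralizer ({y} : Set G))) ∧
        ∀ z : centralizer ({y} : Set G), ¬ s ∣ orderOf z → z ∈ A := by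
  refine direct_factor_of_p_regular_index (fun z hz => ?_) P
  rw [index_cent_eq_rel]
  rcases H.rel_cases hs.out hyp hy z.2 (by rwa [Subgroup.orderOf_coe]) with e | e <;> rw [e]
  · exact hs.out.not_dvd_one
  · exact hsn

/-- In `C(y)` the `s`-elements commute with the `s'`-elements. -/
theorem dec_commute {s : ℕ} [hs : Fact s.Prime] {y : G} (hyp : IsPiElem {s} y) (hy : sz y = m)
    (hsn : ¬ s ∣ n) {a b : G} (ha : a ∈ centralizer ({y} : Set G))
    (hb : b ∈ centralizer ({y} : Set G)) (has : IsPiElem {s} a) (hbs : ¬ s ∣ orderOf b) :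
    Commute a b := by
  set J := centralizer ({y} : Set G)
  obtain ⟨P⟩ : Nonempty (Sylow s J) := inferInstance
  obtain ⟨hPn, A, -, -, hAC, hA⟩ := H.dec_split hyp hy hsn P
  obtain ⟨k, hk⟩ := exists_pow_of_isPiElem_singleton has
  obtain ⟨R, hR⟩ := exists_sylow_mem (show orderOf (⟨a, ha⟩ : J) = s ^ k by rw [Subgroup.orderOf_mk, hk])
  haveI := Sylow.unique_of_normal P hPn
  rw [Subsingleton.elim R P] at hR
  have hb' := hA ⟨b, hb⟩ (by rwa [Subgroup.orderOf_mk])
  exact congrArg Subtype.val (mem_centralizer_iff.mp (hAC hb') _ hR)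

/-- Ito's theorem inside `C(y)`. -/
theorem dec_prime {s : ℕ} [hs : Fact s.Prime] {y : G} (hyp : IsPiElem {s} y) (hy : sz y = m)
    (hsn : ¬ s ∣ n) {r : ℕ} (hr : r.Prime) {x : G} (hxr : IsPiElem {r} x) (hx : sz x = n)
    (hxy : Commute x y) : ∃ a : ℕ, n = r ^ a := by
  haveI := Fact.mk hr
  set J := centralizer ({y} : Set G)
  obtain ⟨P⟩ : Nonempty (Sylow s J) := inferInstance
  obtain ⟨hPn, A, hAn, hcomp, hAC, hA⟩ := H.dec_split hyp hy hsn P
  haveI := hAn
  let xJ : J := ⟨x, mem_cent_iff.mpr hxy⟩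
  have hrelx : (centralizer ({xJ} : Set J)).index = n := by
    rw [index_cent_eq_rel]; exact H.rel_of_n hx hy
  have hn1 := H.one_lt_n
  -- centralizers of elements of `A`
  have hAidx : ∀ l : A, (centralizer ({l} : Set A)).index = (centralizer ({(l : J)} : Set J)).index := by
    intro l
    set K := centralizer ({(l : J)} : Set J) with hK
    have hPK : (P : Subgroup J) ≤ K := fun v hv =>
      mem_cent_iff.mpr (mem_centralizer_iff.mp (hAC l.2) v hv)
    have htop : K ⊔ A = ⊤ := eq_top_iff.mpr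
      (hcomp.sup_eq_top.symm.le.trans (sup_le le_sup_right (hPK.trans le_sup_left)))
    rw [CW.centralizer_subgroupOf, ← hK]
    change K.relIndex A = K.index
    exact relIndex_eq_index K A htop
  have hAcard : ¬ s ∣ Nat.card A := by rw [← hcomp.index_eq_card]; exact P.not_dvd_index
  have hrs : r ≠ s := by
    intro e
    subst e
    obtain ⟨k, hk⟩ := exists_pow_of_isPiElem_singleton hxr
    obtain ⟨R, hR⟩ := exists_sylow_mem (show orderOf xJ = r ^ k by rw [Subgroup.orderOf_mk, hk])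
    haveI := Sylow.unique_of_normal P hPn
    rw [Subsingleton.elim R P] at hR
    have hd : (centralizer ({xJ} : Set J)).index ∣ A.index :=
      Subgroup.index_dvd_of_le fun l hl => mem_cent_iff.mpr (mem_centralizer_iff.mp (hAC hl) xJ hR).symm
    rw [hrelx, hcomp.symm.index_eq_card] at hd
    obtain ⟨j, hj⟩ := P.2.exists_card_eq
    rw [hj] at hd
    obtain ⟨i, -, hi⟩ := (Nat.dvd_prime_pow hr).mp hd
    rcases Nat.eq_zero_or_pos i with h0 | h0
    · rw [h0, pow_zero] at hi; omega
    · exact hsn (hi ▸ dvd_pow_self r h0.ne')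
  have hxA : xJ ∈ A := hA xJ fun hd => hrs
    (Set.mem_singleton_iff.mp (hxr s hs.out (by rwa [Subgroup.orderOf_mk] at hd))).symm
  have hT : TwoSizes.Two A n := by
    refine ⟨hn1, fun l hl => ?_⟩
    rw [hAidx, index_cent_eq_rel]
    have hls : ¬ s ∣ orderOf ((l : J) : G) := by
      rw [Subgroup.orderOf_coe, Subgroup.orderOf_coe]
      exact fun hd => hAcard (hd.trans (orderOf_dvd_natCard l))
    refine (H.rel_cases hs.out hyp hy (l : J).2 hls).resolve_left fun e => hl ?_
    refine sz_eq_one_iff.mp ?_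
    rw [sz, hAidx, index_cent_eq_rel, e]
  have hxnc : (⟨xJ, hxA⟩ : A) ∉ center A := fun h => by
    have h1 := sz_eq_one_iff.mpr h
    rw [sz, hAidx, hrelx] at h1
    omega
  obtain ⟨p, hp, a, hna, hstr⟩ := TwoSizes.ito_two_sizes hT ⟨_, hxnc⟩
  obtain ⟨Pp⟩ : Nonempty (Sylow p A) := inferInstance
  obtain ⟨-, ⟨N, hNn, hNc, hNab, hNP⟩, -⟩ := hstr Pp
  by_cases hrp : r = p
  · exact ⟨a, hrp ▸ hna⟩
  haveI := hNn
  exfalso
  refine hxnc ?_
  have hxN : (⟨xJ, hxA⟩ : A) ∈ N := by
    rw [← QuotientGroup.eq_one_iff, ← orderOf_eq_one_iff]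
    have h1 : orderOf (QuotientGroup.mk (⟨xJ, hxA⟩ : A) : A ⧸ N) ∣ orderOf x :=
      (orderOf_map_dvd (QuotientGroup.mk' N) _).trans
        (by rw [Subgroup.orderOf_mk, Subgroup.orderOf_mk])
    have h2 : orderOf (QuotientGroup.mk (⟨xJ, hxA⟩ : A) : A ⧸ N) ∣ Nat.card Pp := by
      rw [← hNc.symm.index_eq_card, Subgroup.index_eq_card]; exact orderOf_dvd_natCard _
    obtain ⟨k, hk⟩ := exists_pow_of_isPiElem_singleton hxr
    obtain ⟨j, hj⟩ := Pp.2.exists_card_eq
    exact Nat.eq_one_of_dvd_coprimes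
      (((Nat.coprime_primes hr hp.out).mpr hrp).pow k j) (hk ▸ h1) (hj ▸ h2)
  refine mem_center_iff.mpr fun v => ?_
  have hv : v ∈ N ⊔ (Pp : Subgroup A) := by rw [hNc.sup_eq_top]; exact Subgroup.mem_top v
  have hle : N ⊔ (Pp : Subgroup A) ≤ centralizer ({(⟨xJ, hxA⟩ : A)} : Set A) := by
    refine sup_le (fun v hv => mem_cent_iff.mpr ?_) fun v hv => mem_cent_iff.mpr ?_
    · exact congrArg Subtype.val (mul_comm' (⟨v, hv⟩ : N) ⟨_, hxN⟩)
    · exact (hNP _ hxN v hv).symm
  exact (mem_cent_iff.mp (hle hv)).eq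

/-- The case where `C(y)` has two `s'`-class sizes and `s ∣ n`. -/
theorem reg_prime {s : ℕ} [hs : Fact s.Prime] {y : G} (hyp : IsPiElem {s} y) (hy : sz y = m)
    {r : ℕ} (hr : r.Prime) (hrn : ¬ r ∣ n) (hrs : r ≠ s) {x : G} (hxr : IsPiElem {r} x)
    (hx : sz x = n) (hxy : Commute x y) : ∃ a : ℕ, n = s ^ a := by
  classical
  haveI := Fact.mk hr
  set J := centralizer ({y} : Set G)
  let xJ : J := ⟨x, mem_cent_iff.mpr hxy⟩
  have hrelx : (centralizer ({xJ} : Set J)).index = n := by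
    rw [index_cent_eq_rel]; exact H.rel_of_n hx hy
  have hn1 := H.one_lt_n
  have hrange : (Set.range fun w : {w : J // (orderOf w).Coprime s} =>
      (ConjClasses.mk (w : J)).carrier.ncard) = {1, n} := by
    ext k
    constructor
    · rintro ⟨⟨w, hw⟩, rfl⟩
      have hws : ¬ s ∣ orderOf (w : G) := by
        rw [Subgroup.orderOf_coe]; exact (hs.out.coprime_iff_not_dvd).mp hw.symm
      show (ConjClasses.mk w).carrier.ncard = 1 ∨ (ConjClasses.mk w).carrier.ncard = n
      rw [Cfsg.Agent.FGS76.ncard_carrier, index_cent_eq_rel]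
      exact H.rel_cases hs.out hyp hy w.2 hws
    · intro hk
      rcases hk with hk | hk <;> rw [hk]
      · refine ⟨⟨1, by simp⟩, ?_⟩
        show (ConjClasses.mk (1 : J)).carrier.ncard = 1
        rw [Cfsg.Agent.FGS76.ncard_carrier]
        exact sz_eq_one_iff.mpr (one_mem _)
      · refine ⟨⟨xJ, ?_⟩, ?_⟩
        · obtain ⟨k, hk⟩ := exists_pow_of_isPiElem_singleton hxr
          rw [Subgroup.orderOf_mk, hk]
          exact ((Nat.coprime_primes hr hs.out).mpr hrs).pow_left k
        · show (ConjClasses.mk xJ).carrier.ncard = n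
          rw [Cfsg.Agent.FGS76.ncard_carrier, hrelx]
  have h2 := hrange ▸ Set.ncard_pair (show (1 : ℕ) ≠ n by omega)
  have key : ∀ k : ℕ, n ∣ s ^ k → ∃ a : ℕ, n = s ^ a := fun k hk => by
    obtain ⟨a, -, ha⟩ := (Nat.dvd_prime_pow hs.out).mp hk
    exact ⟨a, ha⟩
  obtain ⟨k, hk⟩ := exists_pow_of_isPiElem_singleton hxr
  have hkJ : orderOf xJ = r ^ k := by rw [Subgroup.orderOf_mk, hk]
  rcases Cfsg.Agent.S4033.result hs.out h2 with ⟨L, hLab, -, j, hj⟩ |
    ⟨q', hq', P, Q, A, -, hAc, hcard, hNn, hinf, hsup⟩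
  · obtain ⟨R, -, hRL⟩ := Cfsg.Agent.FGS76.exists_sylow_between
      (IsPGroup.of_bot : IsPGroup r (⊥ : Subgroup J)) (bot_le : ⊥ ≤ L)
      (fun hd => hrs ((Nat.prime_dvd_prime_iff_eq hr hs.out).mp (hr.dvd_of_dvd_pow (hj ▸ hd))))
    obtain ⟨R', hR'⟩ := exists_sylow_mem hkJ
    obtain ⟨c, hc⟩ := MulAction.exists_smul_eq J R' R
    have hcx : c * xJ * c⁻¹ ∈ L :=
      hRL (hc ▸ Subgroup.smul_mem_pointwise_smul xJ (MulAut.conj c) _ hR')
    have hle : L ≤ centralizer ({c * xJ * c⁻¹} : Set J) := fun v hv =>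
      mem_cent_iff.mpr (congrArg Subtype.val (mul_comm' (⟨v, hv⟩ : L) ⟨_, hcx⟩))
    have := Subgroup.index_dvd_of_le hle
    rw [index_centralizer_conj, hrelx, hj] at this
    exact key j this
  · haveI := hAc
    haveI hAn : A.Normal := ⟨fun a ha g => by
      rw [mul_inv_eq_iff_eq_mul.mpr (mem_center_iff.mp (hAc ha) g)]; exact ha⟩
    haveI := hNn
    have hcomp : ((P : Subgroup J) ⊔ (Q : Subgroup J)).IsComplement' A :=
      Subgroup.isComplement'_of_disjoint_and_mul_eq_univ (disjoint_iff.mpr hinf)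
        (by rw [← Subgroup.mul_normal, hsup, Subgroup.coe_top])
    have hAidx : A.index = Nat.card P * Nat.card Q := by rw [hcomp.index_eq_card, hcard]
    obtain ⟨i, hi⟩ := P.2.exists_card_eq
    obtain ⟨j, hj⟩ := Q.2.exists_card_eq
    have hdvd : n ∣ A.index := hrelx ▸ Subgroup.index_dvd_of_le
      (fun a ha => mem_cent_iff.mpr (mem_center_iff.mp (hAc ha) xJ).symm)
    rw [hAidx, hi, hj] at hdvd
    by_cases hrq : r = q'
    · subst hrq
      exact key i (((hr.coprime_iff_not_dvd.mpr hrn).symm.pow_right j).dvd_of_dvd_mul_right hdvd)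
    · exfalso
      have hxA : xJ ∈ A := by
        rw [← QuotientGroup.eq_one_iff, ← orderOf_eq_one_iff]
        have h1 : orderOf (QuotientGroup.mk xJ : J ⧸ A) ∣ r ^ k :=
          hkJ ▸ orderOf_map_dvd (QuotientGroup.mk' A) xJ
        have h2 : orderOf (QuotientGroup.mk xJ : J ⧸ A) ∣ s ^ i * q' ^ j := by
          rw [← hi, ← hj, ← hAidx, Subgroup.index_eq_card]; exact orderOf_dvd_natCard _
        exact Nat.eq_one_of_dvd_coprimes
          ((((Nat.coprime_primes hr hs.out).mpr hrs).pow k i).mul_right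
            (((Nat.coprime_primes hr hq'.out).mpr hrq).pow k j)) h1 h2
      have h1 := sz_eq_one_iff.mpr (hAc hxA)
      rw [sz, hrelx] at h1
      omega

end Hyp

end Cfsg.Agent.FG78.Four
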