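import Cfsg.Agent.FG78.FourSizes.Dec
import Cfsg.Agent.Lib.Fitting.Minimal
import Cfsg.Agent.Lib.CharCore.Burnside
import Cfsg.Agent.LocalEven62.Action
import Cfsg.Agent.FGS80.ThreeSizes.Basic

set_option autoImplicit false

/-! Class sizes `1, p^a, q^b, p^a q^b`: the group is nilpotent. -/

namespace Cfsg.Agent.FG78.Four

open Subgroup CoMax

variable {G : Type*} [Group G] [Finite G] {n m : ℕ}

theorem exists_sylow_le_cent {r : ℕ} [Fact r.Prime] {g : G} (h : ¬ r ∣ sz g) :
    ∃ R : Sylow r G, (R : Subgroup G) ≤ centralizer ({g} : Set G) := by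
  obtain ⟨R, -, hR⟩ := Cfsg.Agent.FGS76.exists_sylow_between
    (IsPGroup.of_bot : IsPGroup r (⊥ : Subgroup G)) bot_le h
  exact ⟨R, hR⟩

theorem exists_sylow_map_card {r : ℕ} [Fact r.Prime] (C : Subgroup G) :
    ∃ S : Subgroup G, S ≤ C ∧ IsPGroup r S ∧ Nat.card S = r ^ (Nat.card C).factorization r := by
  obtain ⟨S⟩ : Nonempty (Sylow r C) := inferInstance
  exact ⟨(S : Subgroup C).map C.subtype, Subgroup.map_subtype_le _, S.2.map _,
    by rw [Subgroup.card_map_of_injective C.subtype_injective, S.card_eq_multiplicity]⟩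

structure PQ (G : Type*) [Group G] (n m p q : ℕ) : Prop extends Hyp G n m where
  hp : p.Prime
  hq : q.Prime
  hn : ∃ a : ℕ, n = p ^ a
  hm : ∃ b : ℕ, m = q ^ b
  comm : Comm G n m

namespace PQ

variable {p q : ℕ} (H : PQ G n m p q)
include H

theorem swap : PQ G m n q p where
  toHyp := H.toHyp.symm
  hp := H.hq
  hq := H.hp
  hn := H.hm
  hm := H.hn
  comm := H.comm.symm

theorem p_dvd : p ∣ n := by
  obtain ⟨a, ha⟩ := H.hn
  rw [ha]
  exact dvd_pow_self p (by rintro rfl; have := H.one_lt_n; simp [ha] at this)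

theorem q_dvd : q ∣ m := H.swap.p_dvd

theorem p_ndvd : ¬ p ∣ m := H.toHyp.symm.not_dvd_of_dvd H.hp H.p_dvd

theorem q_ndvd : ¬ q ∣ n := H.swap.p_ndvd

theorem pq_ne : p ≠ q := fun e => H.p_ndvd (e ▸ H.q_dvd)

theorem prime_cases {r : ℕ} (hr : r.Prime) {g : G} (hg : g ∉ center G) (hgr : IsPiElem {r} g) :
    r = p ∨ r = q := by
  obtain ⟨a, ha⟩ := H.hn
  obtain ⟨b, hb⟩ := H.hm
  rcases hr.dvd_mul.mp (H.toHyp.dvd_of_primary hr hg hgr) with h | h
  · exact Or.inl ((Nat.prime_dvd_prime_iff_eq hr H.hp).mp (hr.dvd_of_dvd_pow (ha ▸ h)))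
  · exact Or.inr ((Nat.prime_dvd_prime_iff_eq hr H.hq).mp (hr.dvd_of_dvd_pow (hb ▸ h)))

theorem isSolvable : Group.IsSolvable G := by
  have h1 : ∀ r : ℕ, r.Prime → r ∣ Nat.card (G ⧸ center G) → r = p ∨ r = q := by
    intro r hr hd
    haveI := Fact.mk hr
    obtain ⟨x, hx⟩ := exists_prime_orderOf_dvd_card' r hd
    obtain ⟨g, rfl⟩ := QuotientGroup.mk_surjective x
    exact H.prime_cases hr (TwoSizes.piPart_not_central (hx.symm.dvd)) (isPiElem_piPart {r} g)
  set N := Nat.card (G ⧸ center G) with hN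
  have hN0 : N ≠ 0 := Nat.card_pos.ne'
  have hc : N = p ^ N.factorization p * q ^ N.factorization q := by
    refine Nat.eq_of_factorization_eq hN0
      (mul_ne_zero (pow_ne_zero _ H.hp.ne_zero) (pow_ne_zero _ H.hq.ne_zero)) fun r => ?_
    rw [Nat.factorization_mul (pow_ne_zero _ H.hp.ne_zero) (pow_ne_zero _ H.hq.ne_zero),
      H.hp.factorization_pow, H.hq.factorization_pow, Finsupp.add_apply]
    by_cases hr : r.Prime ∧ r ∣ N
    · rcases h1 r hr.1 hr.2 with rfl | rfl
      · simp [H.pq_ne]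
      · simp [H.pq_ne.symm]
    · have h0 : N.factorization r = 0 := by
        by_cases hrp : r.Prime
        · exact Nat.factorization_eq_zero_of_not_dvd fun h => hr ⟨hrp, h⟩
        · exact Nat.factorization_eq_zero_of_not_prime N hrp
      rw [h0]
      by_cases hp : r = p
      · subst hp; simp [h0, H.pq_ne]
      by_cases hq : r = q
      · subst hq; simp [h0, H.pq_ne.symm]
      · simp [hp, hq]
  haveI : Group.IsSolvable (center G) := Group.isSolvable_of_comm mul_comm'
  haveI : Group.IsSolvable (G ⧸ center G) :=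
    CharCore.isSolvable_of_card_eq_prime_pow_mul H.hp H.hq _ _ _ _ rfl hc
  exact Group.isSolvable_of_ker_le_range (center G).subtype (QuotientGroup.mk' (center G)) (by simp)

/-- A `q`-element centralizing `O_p` and `O_q` lies in `O_q`. -/
theorem mem_core {g : G} (hg : IsPiElem {q} g)
    (hV : ∀ v ∈ Cfsg.pCore p G, Commute g v) (hW : ∀ w ∈ Cfsg.pCore q G, Commute g w) :
    g ∈ Cfsg.pCore q G := by
  haveI := H.isSolvable
  haveI := Fact.mk H.hq
  have hgF : g ∈ Cfsg.fittingSubgroup G := by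
    refine Fitting.centralizer_fitting_le ?_
    rw [mem_centralizer_iff]
    intro v hv
    have hle : Cfsg.fittingSubgroup G ≤ centralizer ({g} : Set G) := by
      rw [Fitting.fitting_eq_iSup_pCore]
      refine iSup_le fun r w hw => mem_cent_iff.mpr ?_
      haveI := Fact.mk r.2
      by_cases hwZ : w ∈ center G
      · exact (mem_center_iff.mp hwZ g).symm
      rcases H.prime_cases r.2 hwZ (isPiElem_of_mem (Fitting.pCore_isPGroup (r : ℕ)) hw) with e | e
      · exact (hV w (e ▸ hw)).symm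
      · exact (hW w (e ▸ hw)).symm
    exact (mem_cent_iff.mp (hle hv)).eq
  set F := Cfsg.fittingSubgroup G
  haveI : Group.IsNilpotent F := Fitting.fitting_isNilpotent
  obtain ⟨k, hk⟩ := exists_pow_of_isPiElem_singleton hg
  obtain ⟨R, hR⟩ := exists_sylow_mem (show orderOf (⟨g, hgF⟩ : F) = q ^ k by rw [Subgroup.orderOf_mk, hk])
  haveI : (R : Subgroup F).Normal := inferInstance
  haveI := Sylow.characteristic_of_normal R inferInstance
  exact Fitting.le_pCore (inferInstance : ((R : Subgroup F).map F.subtype).Normal) (R.2.map _)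
    (Subgroup.mem_map_of_mem F.subtype hR)

/-- Case: primary class `m` elements are `q`-elements. -/
theorem commute_core (hy : ∃ y : G, IsPiElem {q} y ∧ sz y = m) {c : G} (hc : IsPiElem {p} c) :
    ∀ w ∈ Cfsg.pCore q G, Commute c w := by
  haveI := Fact.mk H.hp
  haveI := Fact.mk H.hq
  obtain ⟨y, hyq, hy⟩ := hy
  obtain ⟨e, he⟩ := exists_conj_commute (z := y) (hy ▸ H.p_ndvd) hc
  set y' := e * y * e⁻¹
  have hy'q : IsPiElem {q} y' := (isPiElem_conj_iff e y).mpr hyq
  have hy' : sz y' = m := (index_centralizer_conj e y).trans hy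
  have hcq : ¬ q ∣ orderOf c :=
    not_dvd_of_isPiElem H.hq hc fun h => H.pq_ne (Set.mem_singleton_iff.mp h).symm
  have hP : IsPGroup q (zpowers y') := by
    obtain ⟨k, hk⟩ := exists_pow_of_isPiElem_singleton hy'q
    exact IsPGroup.of_card (n := k) (by rw [Nat.card_zpowers, hk])
  refine LocalEven62.commute_of_AxB hP (Fitting.pCore_isPGroup q)
    (by rw [Subgroup.normalizer_eq_top_iff.mpr inferInstance]; exact le_top)
    (H.hq.coprime_iff_not_dvd.mpr hcq).symm
    (by rw [Subgroup.normalizer_eq_top_iff.mpr inferInstance]; exact mem_top c)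
    (fun z hz => ?_) fun w hw hwy => ?_
  · obtain ⟨i, rfl⟩ := mem_zpowers_iff.mp hz
    exact he.zpow_right i
  · exact (H.toHyp.dec_commute hy'q hy' H.q_ndvd
      (mem_cent_iff.mpr (hwy y' (mem_zpowers y')).symm) (mem_cent_iff.mpr he)
      (isPiElem_of_mem (Fitting.pCore_isPGroup q) hw) hcq).symm

theorem normal_sylow (hy : ∃ y : G, IsPiElem {q} y ∧ sz y = m)
    (hx : ∃ x : G, IsPiElem {p} x ∧ sz x = n) (P : Sylow p G) : (P : Subgroup G).Normal := by
  haveI := Fact.mk H.hp
  set W := Cfsg.pCore q G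
  set K := centralizer (W : Set G) with hK
  have hPK : (P : Subgroup G) ≤ K := fun v hv =>
    mem_centralizer_iff.mpr fun w hw => (H.commute_core hy (isPiElem_of_mem P.2 hv) w hw).symm.eq
  have hcen : ∀ z : K, ¬ p ∣ orderOf z → ∀ k ∈ K, Commute (z : G) k := by
    intro z hz k hk
    by_contra hne
    obtain ⟨r, a, hr, ⟨i, rfl⟩, hra, hak⟩ :=
      Cfsg.Agent.FGS80.ThreeSizes.exists_primary_not_mem (centralizer ({k} : Set G))
        (show (z : G) ∉ centralizer ({k} : Set G) from fun h => hne (mem_cent_iff.mp h))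
    obtain ⟨j, hj⟩ := hra
    refine hak (mem_cent_iff.mpr ?_)
    have haZ : (z : G) ^ i ∉ center G := fun h =>
      hak (mem_cent_iff.mpr (mem_center_iff.mp h k).symm)
    rcases H.prime_cases hr haZ (isPiElem_singleton_of_pow hr hj) with rfl | rfl
    · have h1 : orderOf ((z : G) ^ i) ∣ orderOf z := by
        rw [← Subgroup.orderOf_coe]; exact orderOf_pow_dvd i
      rcases j with - | j
      · rw [pow_zero, orderOf_eq_one_iff] at hj
        exact absurd (hj ▸ one_mem _) haZ
      · exact absurd ((hj ▸ dvd_pow_self r j.succ_ne_zero).trans h1) hz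
    · have ha : IsPiElem {r} ((z : G) ^ i) := isPiElem_singleton_of_pow hr hj
      have haW : (z : G) ^ i ∈ W := H.mem_core ha
        (fun v hv => (H.swap.commute_core hx ha v hv))
        (fun w hw => (mem_centralizer_iff.mp (K.pow_mem z.2 i) w hw).symm)
      exact (mem_centralizer_iff.mp hk _ haW)
  obtain ⟨hPn, -⟩ := direct_factor_of_p_regular_index (G := K) (p := p) (fun z hz hd => by
    have h1 : centralizer ({z} : Set K) = ⊤ := eq_top_iff.mpr fun k _ =>
      mem_cent_iff.mpr (Subtype.ext (hcen z hz k k.2).symm.eq)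
    rw [h1, Subgroup.index_top] at hd
    exact H.hp.not_dvd_one hd) (P.subtype hPK)
  haveI := Sylow.characteristic_of_normal (P.subtype hPK) hPn
  have h2 : (((P.subtype hPK : Sylow p K) : Subgroup K).map K.subtype).Normal := inferInstance
  rwa [Sylow.coe_subtype, Subgroup.map_subgroupOf_eq_of_le hPK] at h2

section Crossed

variable (hnp : ∀ g : G, IsPiElem {p} g → sz g ≠ n) (hmq : ∀ g : G, IsPiElem {q} g → sz g ≠ m)
  {x y : G} (hxq : IsPiElem {q} x) (hx : sz x = n) (hyp : IsPiElem {p} y) (hy : sz y = m)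
include hnp

theorem n_commute_core {g : G} (hgq : IsPiElem {q} g) (hg : sz g = n) :
    ∀ v ∈ Cfsg.pCore p G, Commute g v := by
  haveI := Fact.mk H.hp
  obtain ⟨S, hSC, hSp, hScard⟩ := exists_sylow_map_card (r := p) (centralizer ({g} : Set G))
  refine LocalEven62.commute_of_AxB hSp (Fitting.pCore_isPGroup p)
    (by rw [Subgroup.normalizer_eq_top_iff.mpr inferInstance]; exact le_top)
    (H.hp.coprime_iff_not_dvd.mpr
      (not_dvd_of_isPiElem H.hp hgq fun h => H.pq_ne (Set.mem_singleton_iff.mp h))).symm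
    (by rw [Subgroup.normalizer_eq_top_iff.mpr inferInstance]; exact mem_top g)
    (fun s hs => (mem_cent_iff.mp (hSC hs)).symm) fun r hr hrS => ?_
  have hrp : IsPiElem {p} r := isPiElem_of_mem (Fitting.pCore_isPGroup p) hr
  rcases H.sz_mem r with e | e | e | e
  · exact mem_center_iff.mp (sz_eq_one_iff.mp e) g
  · exact absurd e (hnp r hrp)
  · exact H.comm q p g r H.hq H.hp hgq hrp hg e
  · obtain ⟨k, hk⟩ := exists_pow_of_isPiElem_singleton hrp
    have hT : IsPGroup p (S ⊔ zpowers r : Subgroup G) :=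
      hSp.to_sup_of_normal_left' (IsPGroup.of_card (n := k) (by rw [Nat.card_zpowers, hk]))
        (Subgroup.zpowers_le.mpr (Subgroup.centralizer_le_normalizer _
          (mem_centralizer_iff.mpr fun s hs => (hrS s hs).eq)))
    have hTC : S ⊔ zpowers r ≤ centralizer ({r} : Set G) := sup_le
      (fun s hs => mem_cent_iff.mpr (hrS s hs)) (Subgroup.zpowers_le.mpr (mem_cent_iff.mpr (Commute.refl r)))
    have h1 := card_le_fact hT hTC
    have h2 := fact_cent g p
    have h3 := fact_cent r p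
    rw [e, H.toHyp.fact_nm, Nat.factorization_eq_zero_of_not_dvd H.p_ndvd, add_zero] at h3
    rw [hg] at h2
    have h4 : (Nat.card (centralizer ({r} : Set G))).factorization p =
        (Nat.card (centralizer ({g} : Set G))).factorization p := by omega
    rw [h4, ← hScard] at h1
    have h5 := Subgroup.eq_of_le_of_card_ge (le_sup_left : S ≤ S ⊔ zpowers r) h1
    exact (mem_cent_iff.mp (hSC (h5 ▸ (le_sup_right : zpowers r ≤ S ⊔ zpowers r) (mem_zpowers r) : r ∈ S))).symm

theorem n_mem_core {g : G} (hgq : IsPiElem {q} g) (hg : sz g = n) : g ∈ Cfsg.pCore q G := by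
  haveI := Fact.mk H.hq
  obtain ⟨R, hR⟩ := exists_sylow_le_cent (r := q) (g := g) (hg ▸ H.q_ndvd)
  exact H.mem_core hgq (H.n_commute_core hnp hgq hg)
    fun w hw => (mem_cent_iff.mp (hR (Fitting.pCore_le_sylow R hw))).symm

include hmq hxq hx hyp hy

theorem q_commute_core {g : G} (hgq : IsPiElem {q} g) : ∀ w ∈ Cfsg.pCore q G, Commute g w := by
  haveI := Fact.mk H.hp
  haveI := Fact.mk H.hq
  intro w hw
  rcases H.sz_mem g with e | e | e | e
  · exact (mem_center_iff.mp (sz_eq_one_iff.mp e) w).symm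
  · obtain ⟨R, hR⟩ := exists_sylow_le_cent (r := q) (g := g) (e ▸ H.q_ndvd)
    exact (mem_cent_iff.mp (hR (Fitting.pCore_le_sylow R hw))).symm
  · exact absurd e (hmq g hgq)
  -- class `nm`: `g` centralizes a class `m` element of `O_p`
  obtain ⟨h, hhC, hhp, hhZ⟩ : ∃ h ∈ centralizer ({g} : Set G), IsPiElem {p} h ∧ h ∉ center G := by
    by_contra! hno
    obtain ⟨S, hSC, hSp, hScard⟩ := exists_sylow_map_card (r := p) (centralizer ({g} : Set G))
    have hSZ : S ≤ center G := fun v hv => hno v (hSC hv) (isPiElem_of_mem hSp hv)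
    have h1 := card_le_fact hSp hSZ
    rw [hScard, Nat.pow_le_pow_iff_right H.hp.one_lt] at h1
    have h2 := fact_cent g p
    have h3 := fact_cent x p
    rw [e, H.toHyp.fact_nm, Nat.factorization_eq_zero_of_not_dvd H.p_ndvd, add_zero] at h2
    rw [hx] at h3
    refine H.toHyp.not_mem_center_of_m hy
      (mem_center_of_fact_le (center_le_centralizer ({x} : Set G)) H.hp (by omega)
        (mem_cent_iff.mpr (H.comm q p x y H.hq H.hp hxq hyp hx hy).symm) hyp)
  obtain ⟨y', hy'p, hy'm, hgy'⟩ : ∃ y' : G, IsPiElem {p} y' ∧ sz y' = m ∧ Commute g y' := by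
    rcases H.sz_mem h with e' | e' | e' | e'
    · exact absurd e' (H.toHyp.sz_ne_one hhZ)
    · exact absurd e' (hnp h hhp)
    · exact ⟨h, hhp, e', (mem_cent_iff.mp hhC).symm⟩
    · obtain ⟨c, hc⟩ := exists_conj_commute (z := y) (hy ▸ H.p_ndvd) hhp
      have hC := H.toHyp.cent_mul H.pq_ne (mem_cent_iff.mp hhC) hhp hgq
      have e1 := eq_of_le_of_index_eq (hC.le.trans inf_le_left)
        ((H.toHyp.eq_of_nm_dvd (e' ▸ sz_dvd_of_le (hC.le.trans inf_le_left))).trans e'.symm)
      exact ⟨c * y * c⁻¹, (isPiElem_conj_iff c y).mpr hyp, (index_centralizer_conj c y).trans hy,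
        (mem_cent_iff.mp ((e1.symm.le.trans (hC.le.trans inf_le_right))
          (mem_cent_iff.mpr hc.symm))).symm⟩
  have hy'V : y' ∈ Cfsg.pCore p G := H.swap.n_mem_core hmq hy'p hy'm
  set J := centralizer ({y'} : Set G)
  have hgp : ¬ p ∣ orderOf g :=
    not_dvd_of_isPiElem H.hp hgq fun h => H.pq_ne (Set.mem_singleton_iff.mp h)
  let gJ : J := ⟨g, mem_cent_iff.mpr hgy'⟩
  have hidx : ¬ q ∣ (centralizer ({gJ} : Set J)).index := by
    rw [index_cent_eq_rel]
    rcases H.toHyp.rel_cases H.hp hy'p hy'm (mem_cent_iff.mpr hgy') hgp with e' | e' <;> rw [e']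
    · exact H.hq.not_dvd_one
    · exact H.q_ndvd
  obtain ⟨R, hR⟩ := exists_sylow_le_cent (r := q) (g := gJ) hidx
  have hWJ : Cfsg.pCore q G ≤ J := fun v hv =>
    mem_cent_iff.mpr (Fitting.pCore_commute H.pq_ne hy'V hv).symm
  have hle : (Cfsg.pCore q G).subgroupOf J ≤ (R : Subgroup J) :=
    IsPGroup.le_sylow_of_normal ((Fitting.pCore_isPGroup q).comap_subtype) R
  have hwR : (⟨w, hWJ hw⟩ : J) ∈ centralizer ({gJ} : Set J) := hR (hle hw)
  exact (congrArg Subtype.val (mem_cent_iff.mp hwR)).symm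

theorem crossed_false : False := by
  haveI := Fact.mk H.hp
  haveI := Fact.mk H.hq
  obtain ⟨Q⟩ : Nonempty (Sylow q G) := inferInstance
  obtain ⟨g, hgQ, hgW⟩ : ∃ g ∈ (Q : Subgroup G), g ∉ Cfsg.pCore q G := by
    by_contra! hall
    have hle : (Q : Subgroup G) ≤ centralizer ({y} : Set G) := fun v hv => mem_cent_iff.mpr
      (Fitting.pCore_commute H.pq_ne (H.swap.n_mem_core hmq hyp hy) (hall v hv)).symm
    exact Q.not_dvd_index ((hy ▸ H.q_dvd : q ∣ sz y).trans (Subgroup.index_dvd_of_le hle))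
  have hgq : IsPiElem {q} g := isPiElem_of_mem Q.2 hgQ
  have hcW := H.q_commute_core hnp hmq hxq hx hyp hy hgq
  have hnV : ¬ ∀ v ∈ Cfsg.pCore p G, Commute g v := fun h => hgW (H.mem_core hgq h hcW)
  have hgZ : g ∉ center G := fun h => hnV fun v _ => (mem_center_iff.mp h v).symm
  have e : sz g = n * m := by
    rcases H.sz_mem g with e | e | e | e
    · exact absurd e (H.toHyp.sz_ne_one hgZ)
    · exact absurd (H.n_mem_core hnp hgq e) hgW
    · exact absurd e (hmq g hgq)
    · exact e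
  obtain ⟨S, hSC, hSp, hScard⟩ := exists_sylow_map_card (r := p) (centralizer ({g} : Set G))
  have hSV : S ≤ Cfsg.pCore p G := by
    intro h hh
    have hhp := isPiElem_of_mem hSp hh
    have hpV : ∀ v ∈ Cfsg.pCore p G, Commute h v :=
      H.swap.q_commute_core hmq hnp hyp hy hxq hx hhp
    rcases H.sz_mem h with e' | e' | e' | e'
    · exact H.swap.mem_core hhp (fun v _ => (mem_center_iff.mp (sz_eq_one_iff.mp e') v).symm) hpV
    · exact absurd e' (hnp h hhp)
    · exact H.swap.n_mem_core hmq hhp e'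
    · exfalso
      have hC := H.toHyp.cent_mul H.pq_ne (mem_cent_iff.mp (hSC hh)) hhp hgq
      have e1 := eq_of_le_of_index_eq (hC.le.trans inf_le_left)
        ((H.toHyp.eq_of_nm_dvd (e' ▸ sz_dvd_of_le (hC.le.trans inf_le_left))).trans e'.symm)
      exact hnV fun v hv => (mem_cent_iff.mp ((e1.symm.le.trans (hC.le.trans inf_le_right))
        (mem_cent_iff.mpr (hpV v hv).symm))).symm
  have h1 := card_le_fact (Fitting.pCore_isPGroup (G := G) p)
    (fun v hv => mem_cent_iff.mpr (H.n_commute_core hnp hxq hx v hv).symm :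
      Cfsg.pCore p G ≤ centralizer ({x} : Set G))
  have h2 := fact_cent g p
  have h3 := fact_cent x p
  rw [e, H.toHyp.fact_nm, Nat.factorization_eq_zero_of_not_dvd H.p_ndvd, add_zero] at h2
  rw [hx] at h3
  have h4 : (Nat.card (centralizer ({x} : Set G))).factorization p =
      (Nat.card (centralizer ({g} : Set G))).factorization p := by omega
  rw [h4, ← hScard] at h1
  have h5 := Subgroup.eq_of_le_of_card_ge hSV h1
  exact hnV fun v hv => (mem_cent_iff.mp (hSC (h5.symm ▸ hv : v ∈ S))).symm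

end Crossed

end PQ

theorem Hyp.exists_pow (H : Hyp G n m) {r s : ℕ} (hr : r.Prime) (hs : s.Prime) {x y : G}
    (hxr : IsPiElem {r} x) (hyp : IsPiElem {s} y) (hx : sz x = n) (hy : sz y = m)
    (hxy : Commute x y) : (¬ s ∣ n ∧ ∃ a, n = r ^ a) ∨ (s ∣ n ∧ ∃ a, n = s ^ a) := by
  haveI := Fact.mk hr
  haveI := Fact.mk hs
  by_cases hsn : s ∣ n
  · right
    refine ⟨hsn, ?_⟩
    have hrn : ¬ r ∣ n := by
      intro hrn
      obtain ⟨b, hb⟩ := H.symm.dec_prime hxr hx (H.symm.not_dvd_of_dvd hr hrn) hs hyp hy hxy.symm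
      refine H.symm.not_dvd_of_dvd hs hsn (hb ▸ dvd_pow_self s ?_)
      rintro rfl
      have := H.one_lt_m
      simp [hb] at this
    exact H.reg_prime hyp hy hr hrn (fun e => hrn (e ▸ hsn)) hxr hx hxy
  · exact Or.inl ⟨hsn, H.dec_prime hyp hy hsn hr hxr hx hxy⟩

theorem Hyp.exists_prime_pow (H : Hyp G n m) : ∃ p : ℕ, p.Prime ∧ ∃ a, n = p ^ a := by
  obtain ⟨r, x, hr, hxr, hx⟩ := H.exists_primary_n
  obtain ⟨s, y, hs, hyp, hy⟩ := H.exists_primary_m
  rcases H.exists_pow hr hs hxr hyp hx hy (H.comm r s x y hr hs hxr hyp hx hy) with ⟨-, h⟩ | ⟨-, h⟩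
  · exact ⟨r, hr, h⟩
  · exact ⟨s, hs, h⟩

theorem Hyp.main (H : Hyp G n m) : Group.IsNilpotent G ∧ IsPrimePow n ∧ IsPrimePow m := by
  obtain ⟨p, hp, a, ha⟩ := H.exists_prime_pow
  obtain ⟨q, hq, b, hb⟩ := H.symm.exists_prime_pow
  have ha0 : a ≠ 0 := by rintro rfl; have := H.one_lt_n; simp [ha] at this
  have hb0 : b ≠ 0 := by rintro rfl; have := H.one_lt_m; simp [hb] at this
  have K : PQ G n m p q :=
    { toHyp := H, hp := hp, hq := hq, hn := ⟨a, ha⟩, hm := ⟨b, hb⟩, comm := H.comm }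
  refine ⟨?_, ⟨p, a, hp.prime, Nat.pos_of_ne_zero ha0, ha.symm⟩,
    ⟨q, b, hq.prime, Nat.pos_of_ne_zero hb0, hb.symm⟩⟩
  -- some `p`-element has class `n` iff some `q`-element has class `m`
  have hpm : ∀ {s : ℕ} {y : G}, s.Prime → IsPiElem {s} y → sz y = m → s = p ∨ s = q :=
    fun hs hyp hy => K.prime_cases hs (H.not_mem_center_of_m hy) hyp
  have key : (∃ x : G, IsPiElem {p} x ∧ sz x = n) → ∃ y : G, IsPiElem {q} y ∧ sz y = m := by
    rintro ⟨x, hxp, hx⟩
    obtain ⟨s, y, hs, hyp, hy⟩ := H.exists_primary_m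
    haveI := Fact.mk hp
    obtain ⟨b', hb'⟩ := H.symm.dec_prime hxp hx K.p_ndvd hs hyp hy (H.comm p s x y hp hs hxp hyp hx hy).symm
    rcases hpm hs hyp hy with e | e
    · refine absurd ?_ K.p_ndvd
      rw [hb', e]
      exact dvd_pow_self p (by rintro rfl; have := H.one_lt_m; simp [hb'] at this)
    · exact ⟨y, e ▸ hyp, hy⟩
  have key' : (∃ y : G, IsPiElem {q} y ∧ sz y = m) → ∃ x : G, IsPiElem {p} x ∧ sz x = n := by
    rintro ⟨y, hyq, hy⟩
    obtain ⟨r, x, hr, hxr, hx⟩ := H.exists_primary_n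
    haveI := Fact.mk hq
    obtain ⟨a', ha'⟩ := H.dec_prime hyq hy K.q_ndvd hr hxr hx (H.comm r q x y hr hq hxr hyq hx hy)
    rcases K.prime_cases hr (H.not_mem_center_of_n hx) hxr with e | e
    · exact ⟨x, e ▸ hxr, hx⟩
    · refine absurd ?_ K.q_ndvd
      rw [ha', e]
      exact dvd_pow_self q (by rintro rfl; have := H.one_lt_n; simp [ha'] at this)
  by_cases hex : ∃ x : G, IsPiElem {p} x ∧ sz x = n
  · have hey := key hex
    refine ((Group.isNilpotent_of_finite_tfae (G := G)).out 0 3).mpr fun r hr R => ?_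
    haveI := hr
    by_cases hrp : r = p
    · subst hrp; exact K.normal_sylow hey hex R
    by_cases hrq : r = q
    · subst hrq; exact K.swap.normal_sylow hex hey R
    refine ⟨fun v hv g => ?_⟩
    have hvZ : v ∈ center G := by
      by_contra hZ
      rcases K.prime_cases hr.out hZ (isPiElem_of_mem R.2 hv) with e | e
      · exact hrp e
      · exact hrq e
    rwa [mem_center_iff.mp hvZ g, mul_inv_cancel_right]
  · exfalso
    obtain ⟨r, x, hr, hxr, hx⟩ := H.exists_primary_n
    obtain ⟨s, y, hs, hyp, hy⟩ := H.exists_primary_m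
    have hr' : r = q := (K.prime_cases hr (H.not_mem_center_of_n hx) hxr).resolve_left
      fun e => hex ⟨x, e ▸ hxr, hx⟩
    have hs' : s = p := (hpm hs hyp hy).resolve_right fun e => hex (key' ⟨y, e ▸ hyp, hy⟩)
    exact K.crossed_false (fun g hg e => hex ⟨g, hg, e⟩) (fun g hg e => hex (key' ⟨g, hg, e⟩))
      (hr' ▸ hxr) hx (hs' ▸ hyp) hy

end Cfsg.Agent.FG78.Four
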